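import Groth.Agent.FEtDepthLib.Three
import Groth.Agent.EtTraceLib.ConstSect

/-!
# Depth of constant sheaves gives faithful and full restriction
-/

set_option autoImplicit false
set_option linter.style.haveILetI false
set_option backward.isDefEq.respectTransparency false
set_option backward.isDefEq.respectTransparency.types false
set_option maxHeartbeats 1000000

universe u

open CategoryTheory CategoryTheory.Limits AlgebraicGeometry Opposite
open Groth.Agent.EtPtsLib Groth.Agent.EtTraceLib

noncomputable section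

namespace Groth.Agent.FEtDepthLib

variable {U X : Scheme.{u}} (j : U ⟶ X) [IsOpenImmersion j]

theorem unit_eq_restr (F : EtCoh.Ab X) :
    haveI := EtJCont.jCont j
    (EtCoh.pullPushAdj j).unit.app F = (restrPushAdj j).unit.app F ≫ (EtCoh.push j).map ((pullIsoRestr j).inv.app F) :=
  haveI := EtJCont.jCont j
  (Adjunction.unit_leftAdjointUniq_hom_app (restrPushAdj j) (EtCoh.pullPushAdj j) F).symm

/-- A monomorphic unit gives injective restriction maps. -/
theorem injective_restr {F : EtCoh.Ab X} (h : Mono ((EtCoh.pullPushAdj j).unit.app F)) (W : X.Etale) :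
    Function.Injective (F.obj.map (rho j W).op) := by
  haveI := EtJCont.jCont j
  haveI := h
  haveI : Mono ((restrPushAdj j).unit.app F) :=
    mono_of_mono_fac (unit_eq_restr j F).symm
  haveI : Mono (((restrPushAdj j).unit.app F).hom.app (op W)) :=
    (sheafToPresheaf _ _ ⋙ (evaluation _ _).obj (op W)).map_mono ((restrPushAdj j).unit.app F)
  intro s t hst
  exact (AddCommGrpCat.mono_iff_injective (((restrPushAdj j).unit.app F).hom.app (op W))).1 inferInstance
    ((unit_restrPush j F W s).trans (hst.trans (unit_restrPush j F W t).symm))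

/-- An isomorphic unit gives bijective restriction maps. -/
theorem surjective_restr {F : EtCoh.Ab X} (h : IsIso ((EtCoh.pullPushAdj j).unit.app F)) (W : X.Etale) :
    Function.Surjective (F.obj.map (rho j W).op) := by
  haveI := EtJCont.jCont j
  haveI := h
  haveI : IsIso ((restrPushAdj j).unit.app F) := by
    have h' := h
    rw [unit_eq_restr] at h'
    exact IsIso.of_isIso_comp_right _ ((EtCoh.push j).map ((pullIsoRestr j).inv.app F))
  intro t
  obtain ⟨s, hs⟩ := (ConcreteCategory.bijective_of_isIso
    ((sheafToPresheaf _ _ ⋙ (evaluation _ _).obj (op W)).map ((restrPushAdj j).unit.app F))).2 t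
  exact ⟨s, (unit_restrPush j F W s).symm.trans hs⟩

variable (h1 : Mono ((EtCoh.pullPushAdj j).unit.app (EtCoh.const X (ZMod 2))))

/-- The coefficients. -/
abbrev Z2 : AddCommGrpCat.{u + 1} := AddCommGrpCat.of (ULift.{u + 1} (ZMod 2))

theorem one_ne_zero_Z2 : (ULift.up 1 : Z2.{u}) ≠ 0 := fun h => absurd (congrArg ULift.down h) (by decide)

include h1 in
theorem meets_of_mono : Meets j := fun W C hC hy => by
  classical
  obtain ⟨s, hs⟩ := exists_cval_eq (M := Z2.{u}) W (fun z => if z ∈ C then ULift.up 1 else 0) (by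
    refine (IsLocallyConstant.iff_exists_open _).2 fun z => ?_
    by_cases hz : z ∈ C
    · exact ⟨C, hC.2, hz, fun w hw => by simp [hz, hw]⟩
    · exact ⟨Cᶜ, hC.1.isOpen_compl, hz, fun w hw => by
        simp [show z ∉ C from hz, show w ∉ C from hw]⟩)
  have h0 : s = 0 := by
    refine injective_restr j h1 W (cval_ext (M := Z2.{u}) fun y => ?_)
    rw [cval_map, cval_map, hs, rho_left, cval_zero]
    simp [hy y]
  refine Set.eq_empty_iff_forall_notMem.2 fun z hz => one_ne_zero_Z2.{u} ?_
  have := hs z
  rw [h0, cval_zero] at this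
  simpa [hz] using this.symm

theorem descends_of_iso (h2 : IsIso ((EtCoh.pullPushAdj j).unit.app (EtCoh.const X (ZMod 2)))) : Descends j :=
  fun W C hC => by
  classical
  obtain ⟨t, ht⟩ := exists_cval_eq (M := Z2.{u}) ((EtShriek.compEtale j).obj ((EtCoh.bc j).obj W))
    (fun z => if z ∈ C then ULift.up 1 else 0) (by
    refine (IsLocallyConstant.iff_exists_open _).2 fun z => ?_
    by_cases hz : z ∈ C
    · exact ⟨C, hC.2, hz, fun w hw => by simp [hz, hw]⟩
    · exact ⟨Cᶜ, hC.1.isOpen_compl, hz, fun w hw => by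
        simp [show z ∉ C from hz, show w ∉ C from hw]⟩)
  obtain ⟨s, rfl⟩ := surjective_restr j h2 W t
  have hlc := isLocallyConstant_cval (M := Z2.{u}) W s
  refine ⟨cval W s ⁻¹' {ULift.up 1}, hlc.isClopen_fiber _, ?_⟩
  ext y
  have := ht y
  rw [cval_map, rho_left] at this
  show cval W s (bcFst j W y) = ULift.up 1 ↔ y ∈ C
  refine (iff_of_eq (congrArg (fun c => c = ULift.up 1) this)).trans ?_
  by_cases hy : y ∈ C
  · simp [hy]
  · simp [hy, one_ne_zero_Z2.{u}.symm]

/-- Met clopens give faithful restriction. -/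
theorem faithful_of_meets (hm : Meets j) (X' : Scheme.{u}) (g : X' ⟶ X) [AlgebraicGeometry.Etale g] :
    (FEt.restrict (pullback.snd j g)).Faithful := FEtLib.faithful _ fun C hC hne => by
  by_contra hn
  refine hne.ne_empty (hm (Scheme.Etale.mk g) C hC fun y hy => hn ⟨(pullbackSymmetry g j).hom y, ?_⟩)
  rw [← Scheme.Hom.comp_apply, pullbackSymmetry_hom_comp_snd]
  exact hy

/-- Descending clopens give full restriction. -/
theorem full_of_descends (hm : Meets j) (hd : Descends j) (X' : Scheme.{u}) (g : X' ⟶ X) [AlgebraicGeometry.Etale g] :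
    (FEt.restrict (pullback.snd j g)).Full := by
  have hmc : FEtLib.MeetsClopens (pullback.snd j g) := fun C hC hne => by
    by_contra hn
    refine hne.ne_empty (hm (Scheme.Etale.mk g) C hC fun y hy => hn ⟨(pullbackSymmetry g j).hom y, ?_⟩)
    rw [← Scheme.Hom.comp_apply, pullbackSymmetry_hom_comp_snd]
    exact hy
  refine FEtLib.full _ hmc fun W' V hV => ?_
  let r := pullback.snd j g
  haveI : AlgebraicGeometry.Etale W'.hom := W'.prop.2
  let W : X.Etale := Scheme.Etale.mk (W'.hom ≫ g)
  have sq : IsPullback (pullback.fst W'.hom r) (pullback.snd W'.hom r ≫ pullback.fst j g) (W'.hom ≫ g) j :=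
    ((IsPullback.of_hasPullback W'.hom r).flip.paste_horiz (IsPullback.of_hasPullback j g)).flip
  let θ := sq.isoPullback
  obtain ⟨D, hD, hDV⟩ := hd W (θ.inv ⁻¹' V) (hV.preimage θ.inv.continuous)
  refine ⟨D, hD, ?_⟩
  ext x
  have h := Set.ext_iff.1 hDV (θ.hom x)
  have e1 : bcFst j W (θ.hom x) = FEtLib.bcFst r W' x :=
    (Scheme.Hom.comp_apply _ _ _).symm.trans congr($(sq.isoPullback_hom_fst) x)
  have e2 : θ.inv (θ.hom x) = x :=
    (Scheme.Hom.comp_apply _ _ _).symm.trans congr($(θ.hom_inv_id) x)
  rw [Set.mem_preimage, Set.mem_preimage, e1, e2] at h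
  exact h

end Groth.Agent.FEtDepthLib
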