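import Groth.Agent.FEtDepthLib.Unit
import Groth.Agent.FEtLib.Clopens
import Groth.Agent.HensH0.ProperH1
import Groth.Agent.EtDepthLib.Restriction
import Groth.Agent.PurePairDesc.Main
import Groth.Agent.S0106
import Groth.Agent.S6645
import Groth.Prelude.Def_EtDepth

/-!
# Homotopic depth three gives depth three for finite locally constant sheaves
-/

set_option autoImplicit false
set_option linter.style.haveILetI false
set_option backward.isDefEq.respectTransparency false
set_option backward.isDefEq.respectTransparency.types false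
set_option maxHeartbeats 1000000

universe u

open CategoryTheory CategoryTheory.Limits AlgebraicGeometry Opposite Abelian
open Groth.Agent.EtPtsLib Groth.Agent.AcycCompLib

attribute [local instance] Groth.Agent.S0101.result

noncomputable section

namespace Groth.Agent.FEtDepthLib

open FEtLib in
/-- Faithful restriction meets clopens. -/
theorem meetsClopens_of_faithful {V W : Scheme.{u}} (r : V ⟶ W) [(FEt.restrict r).Faithful] :
    FEtLib.MeetsClopens r := fun C hC hne => by
  by_contra hn
  let A : (one W).left.Opens := ⟨C, hC.2⟩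
  let a := clopenPartι (one W) A hC.1
  have hE : ∀ z : ((FEt.restrict r).obj (clopenPart (one W) A hC.1)).left, False := fun z => by
    let z₁ : A.toScheme := pullback.fst (A.ι ≫ (one W).hom) r z
    refine hn ⟨pullback.snd (A.ι ≫ (one W).hom) r z, ?_⟩
    rw [← Scheme.Hom.comp_apply, ← pullback.condition, Scheme.Hom.comp_apply]
    exact z₁.2
  haveI : IsEmpty ((FEt.restrict r).obj (clopenPart (one W) A hC.1)).left := ⟨hE⟩
  have h : a ≫ suml (one W) (one W) = a ≫ sumr (one W) (one W) :=
    (FEt.restrict r).map_injective (MorphismProperty.Over.Hom.ext ((isInitialOfIsEmpty).hom_ext _ _))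
  obtain ⟨c, hc⟩ := hne
  exact (isCompl_range_inl_inr (one W).left (one W).left).disjoint.le_bot
    ⟨⟨a.left ⟨c, hc⟩, rfl⟩, a.left ⟨c, hc⟩, congrArg (fun q => q.left ⟨c, hc⟩) h.symm⟩

variable {U X : Scheme.{u}} (j : U ⟶ X)

/-- Restrictions along the projections of étale schemes. -/
theorem meets_of_faithful
    (h : ∀ (X' : Scheme.{u}) (g : X' ⟶ X) [AlgebraicGeometry.Etale g], (FEt.restrict (pullback.snd j g)).Faithful) :
    Meets j := fun W C hC hy => by
  haveI : AlgebraicGeometry.Etale W.hom := W.prop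
  haveI := h W.left W.hom
  by_contra hne
  obtain ⟨x, hx⟩ := meetsClopens_of_faithful (pullback.snd j W.hom) C hC (Set.nonempty_iff_ne_empty.2 hne)
  refine hy ((pullbackSymmetry j W.hom).hom x) ?_
  show pullback.fst W.hom j _ ∈ C
  rwa [← Scheme.Hom.comp_apply, pullbackSymmetry_hom_comp_fst]

theorem descends_of_full
    (h : ∀ (X' : Scheme.{u}) (g : X' ⟶ X) [AlgebraicGeometry.Etale g], (FEt.restrict (pullback.snd j g)).Full) :
    Descends j := fun W C hC => by
  haveI : AlgebraicGeometry.Etale W.hom := W.prop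
  haveI := h W.left W.hom
  let s : pullback j W.hom ⟶ pullback W.hom j := (pullbackSymmetry j W.hom).hom
  let π : ((FEt.restrict (pullback.snd j W.hom)).obj (FEtLib.one W.left)).left ⟶ pullback j W.hom :=
    pullback.snd (𝟙 W.left) (pullback.snd j W.hom)
  obtain ⟨D, hD, hDV⟩ := FEtLib.clopensDescend_of_full (pullback.snd j W.hom) (FEtLib.one W.left) ((π ≫ s) ⁻¹' C)
    (hC.preimage (π ≫ s).continuous)
  refine ⟨D, hD, ?_⟩
  ext y
  haveI : IsIso π := inferInstanceAs (IsIso (pullback.snd (𝟙 W.left) (pullback.snd j W.hom)))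
  obtain ⟨x, rfl⟩ := (π ≫ s).surjective y
  have e : bcFst j W ((π ≫ s) x) = FEtLib.bcFst (pullback.snd j W.hom) (FEtLib.one W.left) x := by
    show pullback.fst W.hom j ((π ≫ s) x) = pullback.fst (𝟙 W.left) (pullback.snd j W.hom) x
    rw [← Scheme.Hom.comp_apply, Category.assoc, pullbackSymmetry_hom_comp_fst]
    exact congrArg (fun q : _ ⟶ W.left => q x) (pullback.condition.symm.trans (Category.comp_id _))
  show bcFst j W ((π ≫ s) x) ∈ D ↔ _
  rw [e]
  exact Set.ext_iff.1 hDV x

/-- Homotopic depth three passes to étale schemes. -/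
theorem htpDepthGE3_etale [IsOpenImmersion j] (h : EtDepth.HtpDepthGE3 j) {X₁ U₁ : Scheme.{u}} (g : X₁ ⟶ X)
    [AlgebraicGeometry.Etale g] (j₁ : U₁ ⟶ X₁) [IsOpenImmersion j₁] (hr : Set.range j₁ = g ⁻¹' Set.range j) :
    EtDepth.HtpDepthGE3 j₁ := fun X' g' _ => by
  haveI : IsOpenImmersion (pullback.snd j (g' ≫ g)) := MorphismProperty.pullback_snd _ _ ‹_›
  haveI : IsOpenImmersion (pullback.snd j₁ g') := MorphismProperty.pullback_snd _ _ ‹_›
  have he : (pullback.snd j₁ g').opensRange = (pullback.snd j (g' ≫ g)).opensRange :=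
    TopologicalSpace.Opens.ext (by
      show Set.range (pullback.snd j₁ g') = Set.range (pullback.snd j (g' ≫ g))
      rw [IsOpenImmersion.range_pullbackSnd, IsOpenImmersion.range_pullbackSnd]
      show g' ⁻¹' Set.range j₁ = (g' ≫ g) ⁻¹' Set.range j
      rw [hr]
      rfl)
  exact (PurePairDesc.isEquivalence_restrict_iff _ _ he).2
    ((PurePairDesc.isEquivalence_restrict_iff _ _ rfl).1 (h X' (g' ≫ g)))

variable [IsOpenImmersion j]

theorem isIso_unit_of_htp (h : EtDepth.HtpDepthGE3 j) {F : EtCoh.Ab X} (hF : EtCoh.IsFiniteLocallyConstant F) :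
    IsIso ((EtCoh.pullPushAdj j).unit.app F) :=
  isIso_unit_of_descends j (meets_of_faithful j fun X' g _ => (h X' g).faithful)
    (descends_of_full j fun X' g _ => (h X' g).full) hF

/-- Surjectivity of restriction in degree one. -/
theorem surjective_Hpull_one (h : EtDepth.HtpDepthGE3 j) [(FEt.restrict j).IsEquivalence] {F : EtCoh.Ab X}
    (hF : EtCoh.IsFiniteLocallyConstant F) : Function.Surjective (EtCore.Hpull j F 1) := fun ξ => by
  obtain ⟨T, hTf, hTs, hT⟩ := HensH0.exists_cover_killing _ (FLCLib.isFiniteLocallyConstant_pull j hF) ξ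
  let p : T.left ⟶ U := T.hom
  haveI : IsFinite p := hTf
  haveI : Etale p := T.prop
  haveI : Surjective p := hTs
  let W₀ : FEt.Cat U := MorphismProperty.Over.mk ⊤ p ⟨‹_›, ‹_›⟩
  let Y := (FEt.restrict j).objPreimage W₀
  let e := (FEt.restrict j).objObjPreimageIso W₀
  let π : Y.left ⟶ X := Y.hom
  haveI : IsFinite π := Y.prop.1
  haveI : Etale π := Y.prop.2
  let e' : T.left ⟶ pullback π j := e.inv.left
  haveI : IsIso e' := inferInstanceAs (IsIso e.inv.left)
  have he : e' ≫ pullback.snd π j = p := MorphismProperty.Over.w e.inv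
  let i : T.left ⟶ Y.left := e' ≫ pullback.fst π j
  have hpb : IsPullback i p π j := by
    refine (IsPullback.of_hasPullback π j).of_iso (asIso e').symm (Iso.refl _) (Iso.refl _) (Iso.refl _)
      ?_ ?_ (by simp) (by simp)
    · simp [i]
    · rw [Iso.symm_hom, asIso_inv, IsIso.eq_inv_comp, Iso.refl_hom, Category.comp_id]
      exact he
  haveI : Surjective π := ⟨fun x => by
    by_contra hx
    obtain ⟨u, hu⟩ := meetsClopens_of_faithful j (Set.range π)ᶜ
      ⟨π.isOpenMap.isOpen_range.isClosed_compl, π.isClosedMap.isClosed_range.isOpen_compl⟩ ⟨x, hx⟩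
    obtain ⟨w, rfl⟩ := p.surjective u
    exact hu ⟨i w, by rw [← Scheme.Hom.comp_apply, hpb.w, Scheme.Hom.comp_apply]⟩⟩
  haveI := EtPtsLib.mono_unit_of_surjective π F
  let η := (EtCoh.pullPushAdj π).unit.app F
  let M := (EtCoh.pull π).obj F
  haveI : IsIso (EtCoh.baseChange0 π j p i hpb.w M) := EtPtsLib.isIso_baseChange0 π j p i hpb M
  let β := (EtCoh.pull j).map η ≫ EtCoh.baseChange0 π j p i hpb.w M
  let γ := ((EtCoh.pullPushAdj p).homEquiv _ _).symm β
  have hβ : β = (EtCoh.pullPushAdj p).unit.app _ ≫ (EtCoh.push p).map γ :=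
    (((EtCoh.pullPushAdj p).homEquiv _ _).apply_symm_apply β).symm.trans (Adjunction.homEquiv_unit _ _ _ _)
  have hkill : Sheaf.H.map ((EtCoh.pull j).map η) 1 ξ = 0 := by
    have : (EtCoh.pull j).map η = β ≫ inv (EtCoh.baseChange0 π j p i hpb.w M) := by simp [β]
    rw [this, hβ, Sheaf.H.map_comp_apply, Sheaf.H.map_comp_apply]
    erw [hT]
    rw [map_zero, map_zero]
  let P : ShortComplex (EtCoh.Ab X) := ShortComplex.mk η (cokernel.π η) (cokernel.condition _)
  have hP : P.ShortExact := { exact := ShortComplex.exact_cokernel η }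
  have hF₂ : EtCoh.IsFiniteLocallyConstant P.X₂ :=
    S0106.result π M (FLCLib.isFiniteLocallyConstant_pull π hF)
  have hF₃ : EtCoh.IsFiniteLocallyConstant P.X₃ := ((S6645.result X).1 _ _ η hF hF₂).2
  obtain ⟨y, hy⟩ := Ext.covariant_sequence_exact₁ _ (hP.map_of_exact (EtCoh.pull j)) ξ hkill (rfl : 0 + 1 = _)
  obtain ⟨y', rfl⟩ := ((bijective_Hpull_of_unit j 0 P.X₃ 0 (isIso_unit_of_htp j h hF₃)
    fun q hq1 hq => absurd hq (by omega)).1 le_rfl).2 y
  exact ⟨y'.comp hP.extClass rfl, (HensH0.Hpull_extClass j hP y').trans hy⟩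

/-- **Homotopic depth three gives depth three** for finite locally constant sheaves. -/
theorem depthGE_three [EtCoh.BCCont j] (h : EtDepth.HtpDepthGE3 j) {F : EtCoh.Ab X}
    (hF : EtCoh.IsFiniteLocallyConstant F) : EtDepth.DepthGE j F 3 := by
  have hiso := isIso_unit_of_htp j h hF
  refine (EtDepthLib.depthGE_iff j F 3).2 ⟨fun _ => @IsIso.mono_of_iso _ _ _ _ _ hiso, fun _ => hiso,
    fun q hq1 hq => isZero_Rpush_of_surjAt j 1 _ (fun p hp1 hp => surjAt_of_Hpull j F p fun W _ => ?_) q hq1 (by omega)⟩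
  obtain rfl : p = 1 := by omega
  haveI : AlgebraicGeometry.Etale W.hom := W.prop
  haveI : IsOpenImmersion (fW j W) := MorphismProperty.of_isPullback (isPullback_fW j W) inferInstance
  have hr : Set.range (fW j W) = W.hom ⁻¹' Set.range j := IsOpenImmersion.range_pullbackFst (f := j) (g := W.hom)
  have h' := htpDepthGE3_etale j h W.hom (fW j W) hr
  haveI : (FEt.restrict (fW j W)).IsEquivalence := by
    haveI : IsOpenImmersion (pullback.snd j W.hom) := MorphismProperty.pullback_snd _ _ ‹_›
    have he : (fW j W).opensRange = (pullback.snd j W.hom).opensRange := TopologicalSpace.Opens.ext (by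
      show Set.range (fW j W) = Set.range (pullback.snd j W.hom)
      rw [hr, IsOpenImmersion.range_pullbackSnd]
      rfl)
    exact (PurePairDesc.isEquivalence_restrict_iff _ _ he).2
      ((PurePairDesc.isEquivalence_restrict_iff _ _ rfl).1 (h W.left W.hom))
  exact surjective_Hpull_one (fW j W) h' (FLCLib.isFiniteLocallyConstant_pull W.hom hF)

end Groth.Agent.FEtDepthLib
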