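import Groth.Agent.FEtDepthLib.Three
import Groth.Agent.EtDepthLib.ClosedPush
import Groth.Agent.EmbedFinLib.Qcqs
import Groth.Agent.RDerLib.Horseshoe
import Groth.Agent.CmpCritLib.Induction
import Groth.Agent.RelPurLib.SemiLimit
import Groth.Agent.EtH1Lib.Torsor
import Groth.Agent.S0137
import Groth.Agent.BCDLib.Vcomp
import Groth.Agent.FLCLib.ExtZeroC

/-!
# Depth three for inverse images of torsion sheaves
-/

set_option autoImplicit false
set_option linter.style.haveILetI false
set_option linter.unusedSectionVars false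
set_option backward.isDefEq.respectTransparency false
set_option backward.isDefEq.respectTransparency.types false
set_option maxHeartbeats 1000000
set_option synthInstance.maxHeartbeats 400000

universe u

open CategoryTheory CategoryTheory.Limits AlgebraicGeometry Opposite
open Groth.Agent.AcycCompLib Groth.Agent.CompBCLib
open Groth.Agent.CmpCritLib (map_comp_apply colim_zero)

attribute [local instance] Groth.Agent.S0101.result

noncomputable section

namespace Groth.Agent.FEtDepthLib

section Colim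

variable {Z Y S : Scheme.{u}} [CompactSpace S] [QuasiSeparatedSpace S] [CompactSpace Y] [QuasiSeparatedSpace Y]
  [CompactSpace Z] [QuasiSeparatedSpace Z] (g : Y ⟶ S) (h : Z ⟶ Y) {F : EtCoh.Ab S} (hF : EtCoh.IsTorsion F)
  (q : ℕ)

theorem sysHyp_constructible : FLCLib.SysHyp (fun E => EtPBC.IsConstructible E) F :=
  ⟨fun _ hE => hE, fun e hE => FLCLib.isConstructible_of_iso e hE, fun E hE a => ⟨E, hE, 𝟙 E, a, Category.id_comp a⟩⟩

include hF in
/-- Comparison for inverse images may be tested on constructible sheaves. -/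
theorem bijective_of_sys
    (hP : ∀ E : EtCoh.Ab S, EtPBC.IsConstructible E → Function.Bijective (EtCore.Hpull h ((EtCoh.pull g).obj E) q)) :
    Function.Bijective (EtCore.Hpull h ((EtCoh.pull g).obj F) q) := by
  let P : ObjectProperty (EtCoh.Ab S) := fun E => EtPBC.IsConstructible E
  have H : FLCLib.SysHyp P F := sysHyp_constructible
  haveI := H.isFiltered
  obtain ⟨hc⟩ := H.nonempty_isColimit hF
  let D := FLCLib.sysDiag P F
  let c := FLCLib.sysCocone P F
  haveI := CohColim.preserves_HF Y q (FLCLib.SysObj P F)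
  haveI := CohColim.preserves_HF Z q (FLCLib.SysObj P F)
  haveI := (EtCoh.pullPushAdj h).isLeftAdjoint
  haveI := (EtCoh.pullPushAdj g).isLeftAdjoint
  refine ⟨(injective_iff_map_eq_zero _).2 fun x hx => ?_, fun y => ?_⟩
  · obtain ⟨j, x₀, rfl⟩ := Concrete.isColimit_exists_rep (D ⋙ EtCoh.pull g ⋙ EtCoh.HF Y q)
      (isColimitOfPreserves (EtCoh.pull g ⋙ EtCoh.HF Y q) hc) x
    have hx' : Sheaf.H.map ((EtCoh.pull h).map ((EtCoh.pull g).map (c.ι.app j))) q
        (EtCore.Hpull h ((EtCoh.pull g).obj (D.obj j)) q x₀) = 0 :=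
      (Hpull_map h ((EtCoh.pull g).map (c.ι.app j)) x₀).symm.trans hx
    obtain ⟨k, f, hfg⟩ := colim_zero hc (EtCoh.pull g ⋙ EtCoh.pull h ⋙ EtCoh.HF Z q) j
      (EtCore.Hpull h ((EtCoh.pull g).obj (D.obj j)) q x₀) hx'
    have hfg' : Sheaf.H.map ((EtCoh.pull h).map ((EtCoh.pull g).map (D.map f))) q
        (EtCore.Hpull h ((EtCoh.pull g).obj (D.obj j)) q x₀) = 0 := hfg
    have h0 : Sheaf.H.map ((EtCoh.pull g).map (D.map f)) q x₀ = 0 :=
      (hP (D.obj k) k.hP).1 ((Hpull_map h ((EtCoh.pull g).map (D.map f)) x₀).trans (hfg'.trans (map_zero _).symm))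
    show Sheaf.H.map ((EtCoh.pull g).map (c.ι.app j)) q x₀ = 0
    rw [← c.w f, Functor.map_comp, map_comp_apply, h0, map_zero]
  · obtain ⟨j, y₀, rfl⟩ := Concrete.isColimit_exists_rep (D ⋙ EtCoh.pull g ⋙ EtCoh.pull h ⋙ EtCoh.HF Z q)
      (isColimitOfPreserves (EtCoh.pull g ⋙ EtCoh.pull h ⋙ EtCoh.HF Z q) hc) y
    obtain ⟨x₀, rfl⟩ := (hP (D.obj j) j.hP).2 y₀
    exact ⟨Sheaf.H.map ((EtCoh.pull g).map (c.ι.app j)) q x₀, Hpull_map h ((EtCoh.pull g).map (c.ι.app j)) x₀⟩

end Colim

/-- Vanishing of local cohomology passes to direct images along integral morphisms. -/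
theorem isZero_locCoh_push_integral {Z X U UZ : Scheme.{u}} (i : Z ⟶ X) [IsIntegralHom i] (k : U ⟶ X)
    [IsOpenImmersion k] (kZ : UZ ⟶ Z) [IsOpenImmersion kZ] (gU : UZ ⟶ U) (sq : IsPullback kZ gU i k)
    (N : EtCoh.Ab Z) (a : ℕ) (h : IsZero ((EtDual.locCoh kZ a).obj N)) :
    IsZero ((EtDual.locCoh k a).obj ((EtCoh.push i).obj N)) := by
  haveI : PreservesFiniteLimits (EtCoh.push i) := HensH0.preservesFiniteLimits_push i
  haveI : PreservesFiniteColimits (EtCoh.push i) := HensH0.preservesFiniteColimits_push i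
  haveI : (EtCoh.push i).Additive := (EtCoh.pullPushAdj i).right_adjoint_additive
  haveI : PreservesFiniteLimits (EtDual.secSupp k) :=
    ((Functor.preservesFiniteLimits_tfae (EtDual.secSupp k)).out 2 3).1
      fun _ _ f => SuppCoh.preservesKernel_secSupp k f
  haveI : (EtCoh.push i).PreservesInjectiveObjects :=
    Functor.preservesInjectiveObjects_of_adjunction_of_preservesMonomorphisms (EtCoh.pullPushAdj i)
  have hac : ∀ I : EtCoh.Ab Z, Injective I →
      SpSeqLib.IsAcyclicFor (EtDual.secSupp k) ((EtCoh.push i).obj I) := fun I _ p => by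
    haveI : Injective ((EtCoh.push i).obj I) := Functor.PreservesInjectiveObjects.injective_obj inferInstance
    exact (EtDual.secSupp k).isZero_rightDerived_obj_injective_succ p _
  exact ((EtCoh.push i).map_isZero h).of_iso
    (((SpSeqLib.rightDerivedPrecompAcyclicIso (EtCoh.push i) (EtDual.secSupp k) hac a).symm ≪≫
      SpSeqLib.rightDerivedCongr (EtDepthLib.secSuppPushNatIso i k kZ gU sq) a ≪≫
      SpSeqLib.rightDerivedPostcompIso (EtDual.secSupp kZ) (EtCoh.push i) a).app N)

variable {U X S : Scheme.{u}} (f : X ⟶ S) (j : U ⟶ X) [IsOpenImmersion j]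

/-- Restriction of finite etale covers stays an equivalence after all finite base changes. -/
def HtpFinite : Prop :=
  ∀ (S' : Scheme.{u}) (p : S' ⟶ S) [IsFinite p], EtDepth.HtpDepthGE3 (pullback.snd j (pullback.fst f p))

variable {f j}

/-- Depth three for direct images of finite constant groups from finite schemes. -/
theorem isZero_locCoh_pull_push (hY : HtpFinite f j) {S' : Scheme.{u}} (p : S' ⟶ S) [IsFinite p] (M : Type)
    [AddCommGroup M] [Finite M] (a : ℕ) (ha : a < 3) :
    IsZero ((EtDual.locCoh j a).obj ((EtCoh.pull f).obj ((EtCoh.push p).obj (EtCoh.const S' M)))) := by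
  let p' := pullback.fst f p
  let f' := pullback.snd f p
  haveI : IsFinite p' := MorphismProperty.pullback_fst _ _ ‹_›
  haveI : IsOpenImmersion (pullback.snd j p') := MorphismProperty.pullback_snd _ _ ‹_›
  haveI := EtPtsLib.isIso_baseChange0 p f p' f' (IsPullback.of_hasPullback f p).flip (EtCoh.const S' M)
  let e : (EtCoh.pull f).obj ((EtCoh.push p).obj (EtCoh.const S' M)) ≅
      (EtCoh.push p').obj (EtCoh.const (pullback f p) M) :=
    asIso (EtCoh.baseChange0 p f p' f' (IsPullback.of_hasPullback f p).flip.w (EtCoh.const S' M)) ≪≫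
      (EtCoh.push p').mapIso (EtCore.pullConst f' M)
  refine IsZero.of_iso ?_ ((EtDual.locCoh j a).mapIso e)
  exact isZero_locCoh_push_integral p' j (pullback.snd j p') (pullback.fst j p')
    (IsPullback.of_hasPullback j p').flip _ a
    (depthGE_three (pullback.snd j p') (hY S' p) (EtH1Lib.isFiniteLocallyConstant_const M) a ha)

theorem nsmul_const_eq_zero (Z : Scheme.{u}) (M : Type) [AddCommGroup M] [Finite M] :
    Nat.card M • 𝟙 (EtCoh.const Z M) = 0 := by
  haveI : (constantSheaf Z.smallEtaleTopology AddCommGrpCat.{u + 1}).Additive :=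
    (constantSheafAdj Z.smallEtaleTopology AddCommGrpCat.{u + 1}
      (MorphismProperty.Over.mkIdTerminal _ Z)).left_adjoint_additive
  rw [← CategoryTheory.Functor.map_id, ← Functor.map_nsmul]
  have h : (Nat.card M • 𝟙 (AddCommGrpCat.of (ULift.{u + 1} M))) = 0 := by
    refine AddCommGrpCat.ext fun x => ULift.ext _ _ ?_
    exact card_nsmul_eq_zero'
  rw [h, Functor.map_zero]

variable [CompactSpace S] [QuasiSeparatedSpace S] [QuasiCompact j]

/-- **Depth three** for inverse images of torsion sheaves. -/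
theorem depthGE_three_pull [EtCoh.BCCont j] (hY : HtpFinite f j) {F : EtCoh.Ab S} (hF : EtCoh.IsTorsion F) :
    EtDepth.DepthGE j ((EtCoh.pull f).obj F) 3 := by
  haveI : (EtDual.secSupp j).Additive := inferInstance
  haveI : PreservesFiniteLimits (EtDual.secSupp j) :=
    ((Functor.preservesFiniteLimits_tfae (EtDual.secSupp j)).out 2 3).1
      fun _ _ a => SuppCoh.preservesKernel_secSupp j a
  haveI : (EtCoh.pull f).Additive := (EtCoh.pullPushAdj f).left_adjoint_additive
  obtain ⟨Δ⟩ := RDerLib.nonempty_derivedLES (EtDual.secSupp j)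
  have hcolim : (∀ E : EtCoh.Ab S, EtPBC.IsConstructible E → EtDepth.DepthGE j ((EtCoh.pull f).obj E) 3) →
      EtDepth.DepthGE j ((EtCoh.pull f).obj F) 3 := fun hE => by
    refine RelPurLib.depthGE_of_affine j _ 1 fun W hW q hq => ?_
    haveI := hW
    haveI : IsAffine ((𝟭 Scheme).obj W.left) := hW
    haveI : CompactSpace ↥((𝟭 Scheme).obj W.left) := inferInstanceAs (CompactSpace ↥W.left)
    haveI : QuasiSeparatedSpace ↥((𝟭 Scheme).obj W.left) := inferInstanceAs (QuasiSeparatedSpace ↥W.left)
    haveI : AlgebraicGeometry.Etale W.hom := W.prop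
    haveI : QuasiCompact (fW j W) := MorphismProperty.of_isPullback (isPullback_fW j W) inferInstance
    haveI : IsOpenImmersion (fW j W) := MorphismProperty.of_isPullback (isPullback_fW j W) inferInstance
    haveI : CompactSpace ↥(pullback W.hom j) := QuasiCompact.compactSpace_of_compactSpace (fW j W)
    haveI : QuasiSeparatedSpace ↥(pullback W.hom j) := quasiSeparatedSpace_of_quasiSeparated (fW j W)
    refine (ConeContrLib.bijective_Hpull_iso_iff (fW j W) ((BCDLib.pullCompIso f W.hom).app F) q).1 ?_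
    refine bijective_of_sys (W.hom ≫ f) (fW j W) hF q fun E hEc => ?_
    refine (ConeContrLib.bijective_Hpull_iso_iff (fW j W) ((BCDLib.pullCompIso f W.hom).app E).symm q).1 ?_
    have hd := EtDepthLib.depthGE_pull j ((EtCoh.pull f).obj E) W.hom (fW j W) (pullback.snd W.hom j)
      (isPullback_fW j W) 3 (hE E hEc)
    obtain ⟨-, hu, hR⟩ := (EtDepthLib.depthGE_iff (fW j W) _ 3).1 hd
    exact (bijective_Hpull_of_unit (fW j W) q _ 1 (hu (by omega)) fun i hi hin => hR i hi (by omega)).1 hq
  refine hcolim ?_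
  clear hcolim hF F
  suffices H : ∀ n ≤ 3, ∀ E : EtCoh.Ab S, EtPBC.IsConstructible E → EtDepth.DepthGE j ((EtCoh.pull f).obj E) n from
    H 3 le_rfl
  intro n
  induction n with
  | zero => exact fun _ _ _ a ha => absurd ha (Nat.not_lt_zero a)
  | succ n ih =>
    intro hn E hE a ha
    rcases Nat.lt_or_ge a n with ha' | ha'
    · exact ih (by omega) E hE a ha'
    obtain rfl : a = n := by omega
    obtain ⟨r, Y, p, hp, hlp, M, iM, fM, ι, hι⟩ := EmbedFinLib.exists_mono_finite_qcqs hE
    letI := iM
    haveI := fM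
    haveI := hp
    haveI := hι
    haveI := hlp
    let G := ⨁ fun i => (EtCoh.push (p i)).obj (EtCoh.const (Y i) (M i))
    let T : ShortComplex (EtCoh.Ab S) := ShortComplex.mk ι (cokernel.π ι) (cokernel.condition ι)
    have hT : T.ShortExact := { exact := ShortComplex.exact_cokernel ι }
    have hT' : (T.map (EtCoh.pull f)).ShortExact := hT.map_of_exact _
    have hG : IsZero ((EtDual.locCoh j a).obj ((EtCoh.pull f).obj G)) := by
      haveI : (EtDual.locCoh j a).Additive := inferInstanceAs ((EtDual.secSupp j).rightDerived a).Additive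
      let Φ := EtCoh.pull f ⋙ EtDual.locCoh j a
      haveI : PreservesFiniteBiproducts Φ := Functor.preservesFiniteBiproductsOfAdditive Φ
      refine IsZero.of_iso ?_ (Φ.mapBiproduct _)
      rw [IsZero.iff_id_eq_zero]
      refine biproduct.hom_ext _ _ fun i => ?_
      exact (isZero_locCoh_pull_push hY (p i) (M i) a (by omega)).eq_of_tgt _ _
    rcases a with _ | a
    · haveI : Mono (((EtDual.secSupp j).rightDerived 0).map (T.map (EtCoh.pull f)).f) := by
        haveI := hT'.mono_f
        rw [← NatIso.naturality_2 (EtDual.secSupp j).rightDerivedZeroIsoSelf (T.map (EtCoh.pull f)).f]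
        infer_instance
      exact IsZero.of_mono (((EtDual.secSupp j).rightDerived 0).map (T.map (EtCoh.pull f)).f) hG
    · refine (Δ.exact₁ _ hT' a (a + 1) rfl).isZero_of_both_zeros (IsZero.eq_of_src ?_ _ _) (hG.eq_of_tgt _ _)
      have hN : 0 < ∏ i, Nat.card (M i) := Finset.prod_pos fun i _ => Nat.card_pos
      have hk : ∀ i, EtCoh.KilledBy (∏ i, Nat.card (M i)) ((EtCoh.push (p i)).obj (EtCoh.const (Y i) (M i))) := fun i => by
        refine CompBCLib.killedBy_push _ ((FLCLib.killedBy_iff _ _).2 ?_)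
        obtain ⟨m, hm⟩ := Finset.dvd_prod_of_mem (fun i => Nat.card (M i)) (Finset.mem_univ i)
        rw [hm, mul_nsmul, nsmul_const_eq_zero, smul_zero]
      have hcp : ∀ i, EtPBC.IsConstructible ((EtCoh.push (p i)).obj (EtCoh.const (Y i) (M i))) := fun i =>
        S0137.result (p i) _ (FLCLib.isConstructible_of_flc (EtH1Lib.isFiniteLocallyConstant_const (M i)))
      exact ih (by omega) T.X₃
        (FLCLib.isConstructible_kernel_cokernel ι hE (FLCLib.isConstructible_biproduct hN hk hcp)).2 a (by omega)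

end Groth.Agent.FEtDepthLib
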