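import Groth.Agent.EtPtsLib.OpenShriek
import Groth.Agent.EtJCont.Basic
import Groth.Agent.FLCLib.Spec
import Groth.Agent.HensH0.Agree
import Groth.Agent.S0101

/-!
# Clopen subsets and the unit of restriction to an open subscheme
-/

set_option autoImplicit false
set_option linter.style.haveILetI false
set_option backward.isDefEq.respectTransparency false
set_option backward.isDefEq.respectTransparency.types false
set_option maxHeartbeats 1000000

universe u

open CategoryTheory CategoryTheory.Limits AlgebraicGeometry Opposite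
open Groth.Agent.EtPtsLib

noncomputable section

namespace Groth.Agent.FEtDepthLib

variable {U X : Scheme.{u}} (j : U ⟶ X)

/-- The open subscheme meets every nonempty clopen of every étale scheme. -/
def Meets : Prop := ∀ (W : X.Etale) (C : Set W.left), IsClopen C → (∀ y, bcFst j W y ∉ C) → C = ∅

/-- Clopens of restrictions to the open subscheme descend. -/
def Descends : Prop :=
  ∀ (W : X.Etale) (C : Set ((EtCoh.bc j).obj W).left), IsClopen C → ∃ D : Set W.left, IsClopen D ∧ bcFst j W ⁻¹' D = C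

variable [IsOpenImmersion j]

/-- The restriction map of an étale scheme. -/
def rho (W : X.Etale) : (EtShriek.compEtale j).obj ((EtCoh.bc j).obj W) ⟶ W := (compBcAdj j).counit.app W

theorem rho_left (W : X.Etale) : (rho j W).left = bcFst j W := Category.id_comp _

theorem unit_restrPush (F : EtCoh.Ab X) (W : X.Etale) (s : EtCoh.sect F W) :
    haveI := EtJCont.jCont j
    ((restrPushAdj j).unit.app F).hom.app (op W) s = F.obj.map (rho j W).op s := rfl

variable {F : EtCoh.Ab X}

/-- Sections agreeing on the restriction agree there. -/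
theorem mem_agree_of_restr (W : X.Etale) (s t : EtCoh.sect F W)
    (h : F.obj.map (rho j W).op s = F.obj.map (rho j W).op t) (y : ((EtCoh.bc j).obj W).left) :
    bcFst j W y ∈ agree F.obj s t :=
  Set.mem_iUnion.2 ⟨_, Set.mem_iUnion.2 ⟨rho j W, Set.mem_iUnion.2 ⟨h, y, by rw [rho_left]; rfl⟩⟩⟩

/-- The unit is a monomorphism on finite locally constant sheaves if clopens are met. -/
theorem mono_unit_of_meets (hm : Meets j) (hF : EtCoh.IsFiniteLocallyConstant F) :
    Mono ((EtCoh.pullPushAdj j).unit.app F) := by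
  haveI := EtJCont.jCont j
  have h : ∀ W : X.Etale, Function.Injective (((restrPushAdj j).unit.app F).hom.app (op W)) := fun W s t hst => by
    rw [unit_restrPush, unit_restrPush] at hst
    refine HensH0.eq_of_agree F fun p => ?_
    by_contra hp
    have := hm W (agree F.obj s t)ᶜ ⟨(isOpen_agree _ _ _).isClosed_compl, (FLCLib.isClosed_agree_of_flc hF s t).isOpen_compl⟩
      fun y hy => hy (mem_agree_of_restr j W s t hst y)
    exact (Set.eq_empty_iff_forall_notMem.1 this p) hp
  haveI : Mono ((restrPushAdj j).unit.app F) := by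
    haveI : Mono ((sheafToPresheaf _ _).map ((restrPushAdj j).unit.app F)) := by
      haveI : ∀ W, Mono (((sheafToPresheaf _ _).map ((restrPushAdj j).unit.app F)).app W) := fun W =>
        (AddCommGrpCat.mono_iff_injective _).2 (h W.unop)
      exact NatTrans.mono_of_mono_app _
    exact (sheafToPresheaf _ _).mono_of_mono_map this
  rw [show (EtCoh.pullPushAdj j).unit.app F = (restrPushAdj j).unit.app F ≫
      (EtCoh.push j).map ((pullIsoRestr j).inv.app F) from (Adjunction.unit_leftAdjointUniq_hom_app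
        (restrPushAdj j) (EtCoh.pullPushAdj j) F).symm]
  infer_instance

/-- Every section over the restriction extends locally if clopens descend. -/
theorem exists_extension (hm : Meets j) (hd : Descends j) (hF : EtCoh.IsFiniteLocallyConstant F) (W : X.Etale)
    (t : EtCoh.sect F ((EtShriek.compEtale j).obj ((EtCoh.bc j).obj W))) (w : W.left) :
    ∃ (V : X.Etale) (g : V ⟶ W) (_ : w ∈ Set.range g.left) (s : EtCoh.sect F V),
      F.obj.map (rho j V).op s = F.obj.map ((EtShriek.compEtale j).map ((EtCoh.bc j).map g)).op t := by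
  classical
  obtain ⟨Q, M, θ, hwQ, hM, hθ⟩ := (FLCLib.finiteLocallyConstant_iff F).1 hF (W.hom w)
  haveI : Finite M := hM
  obtain ⟨l, hl⟩ := exists_lift_geomPt w
  obtain ⟨y⟩ := FLCLib.exists_geomPt_lift hwQ
  obtain ⟨q, a, b, -⟩ := IsCofilteredOrEmpty.cone_objs (C := FLCLib.Nbhd (geomPt (W.hom w))) ⟨W, l⟩ ⟨Q, y⟩
  let W₁ := q.1
  let g₁ : W₁ ⟶ W := a.1
  have hw₁ : g₁.left q.point = w := (FLCLib.Nbhd.map_point a).trans hl
  let θ₁ := θ ≫ F.obj.map b.1.op
  have hθ₁ : FLCLib.IsConstOn F W₁ θ₁ := hθ.map b.1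
  let P := (EtShriek.compEtale j).obj ((EtCoh.bc j).obj W₁)
  let t₁ : EtCoh.sect F P := F.obj.map ((EtShriek.compEtale j).map ((EtCoh.bc j).map g₁)).op t
  let C : M → Set ((EtCoh.bc j).obj W₁).left := fun m => agree F.obj t₁ (F.obj.map (rho j W₁).op (θ₁ m))
  have hC : ∀ m, IsClopen (C m) := fun m => ⟨FLCLib.isClosed_agree_of_flc hF _ _, isOpen_agree _ _ _⟩
  have hCcov : ∀ p, ∃ m, p ∈ C m := fun p => by
    obtain ⟨Ω, _, _, ξ, lp, hlp⟩ := HensH0.exists_geom P p
    obtain ⟨m, hmm⟩ := (hθ₁ Ω ξ ((Scheme.pointSmallEtale ξ).fiber.map (rho j W₁) lp)).2 (germ ξ F lp t₁)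
    refine ⟨m, hlp ▸ (germ_eq_iff_mem_agree ξ F.obj lp _ _).1 ?_⟩
    exact hmm.symm.trans (germ_map ξ F (rho j W₁) lp (θ₁ m)).symm
  choose D hD hDC using fun m => hd W₁ (C m) (hC m)
  have hDcov : q.point ∈ ⋃ m, D m := by
    by_contra hn
    have := hm W₁ (⋃ m, D m)ᶜ (isClopen_iUnion_of_finite hD).compl fun p hp => by
      obtain ⟨m, hpm⟩ := hCcov p
      rw [← hDC m] at hpm
      exact hp (Set.mem_iUnion.2 ⟨m, hpm⟩)
    exact Set.eq_empty_iff_forall_notMem.1 this _ hn
  obtain ⟨m, hmD⟩ := Set.mem_iUnion.1 hDcov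
  haveI : AlgebraicGeometry.Etale W₁.hom := W₁.prop
  let O : W₁.left.Opens := ⟨D m, (hD m).2⟩
  let V : X.Etale := Scheme.Etale.mk (O.ι ≫ W₁.hom)
  let g₂ : V ⟶ W₁ := MorphismProperty.Over.homMk O.ι rfl
  refine ⟨V, g₂ ≫ g₁, ⟨⟨q.point, hmD⟩, ?_⟩, F.obj.map g₂.op (θ₁ m), HensH0.eq_of_agree F fun p => ?_⟩
  · show g₁.left (O.ι ⟨q.point, hmD⟩) = w
    exact hw₁
  have hn : (EtShriek.compEtale j).map ((EtCoh.bc j).map g₂) ≫ rho j W₁ = rho j V ≫ g₂ :=
    (compBcAdj j).counit.naturality g₂
  have e1 : F.obj.map (rho j V).op (F.obj.map g₂.op (θ₁ m)) =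
      F.obj.map ((EtShriek.compEtale j).map ((EtCoh.bc j).map g₂)).op (F.obj.map (rho j W₁).op (θ₁ m)) := by
    simp only [← ConcreteCategory.comp_apply, ← Functor.map_comp, ← op_comp, hn]
  have e2 : F.obj.map ((EtShriek.compEtale j).map ((EtCoh.bc j).map (g₂ ≫ g₁))).op t =
      F.obj.map ((EtShriek.compEtale j).map ((EtCoh.bc j).map g₂)).op t₁ := by
    simp only [t₁, Functor.map_comp, op_comp, ConcreteCategory.comp_apply]
  rw [e1, e2]
  refine (HensH0.mem_agree_map_iff F _ _ _ p).2 (HensH0.agree_symm F ?_)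
  refine (Set.ext_iff.1 (hDC m) _).1 ?_
  show bcFst j W₁ (((EtCoh.bc j).map g₂).left p) ∈ D m
  rw [← Scheme.Hom.comp_apply, bcFst_map, Scheme.Hom.comp_apply]
  exact (bcFst j V p).2

/-- The unit is an isomorphism on finite locally constant sheaves if clopens are met and descend. -/
theorem isIso_unit_of_descends (hm : Meets j) (hd : Descends j) (hF : EtCoh.IsFiniteLocallyConstant F) :
    IsIso ((EtCoh.pullPushAdj j).unit.app F) := by
  haveI := EtJCont.jCont j
  haveI := mono_unit_of_meets j hm hF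
  have e : (EtCoh.pullPushAdj j).unit.app F = (restrPushAdj j).unit.app F ≫
      (EtCoh.push j).map ((pullIsoRestr j).inv.app F) := (Adjunction.unit_leftAdjointUniq_hom_app
        (restrPushAdj j) (EtCoh.pullPushAdj j) F).symm
  haveI : Epi ((restrPushAdj j).unit.app F) := by
    refine (Sheaf.isLocallySurjective_iff_epi' AddCommGrpCat.{u + 1} _).1 ⟨fun {W} t => ?_⟩
    refine (congrArg (fun T : GrothendieckTopology X.Etale => _ ∈ T W)
      (Scheme.smallGrothendieckTopology_eq_toGrothendieck_smallPretopology X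
        (P := EtCoh.etaleMP) (Q := EtCoh.etaleMP) le_rfl)).mpr
      ((Scheme.mem_toGrothendieck_smallPretopology W _).2 fun w => ?_)
    obtain ⟨V, g, ⟨v, hv⟩, s, hs⟩ := exists_extension j hm hd hF W t w
    exact ⟨V, g, v, ⟨s, hs⟩, inferInstance, hv⟩
  haveI : Epi ((EtCoh.pullPushAdj j).unit.app F) := by
    rw [e]
    infer_instance
  exact isIso_of_mono_of_epi _

end Groth.Agent.FEtDepthLib
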